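import Mathlib
import Cfsg.Agent.Blocks.SylowCount.Main
import Cfsg.Agent.Blocks.HalfDegree.Main
import Cfsg.Agent.Classical.Misc.SmallPSL
import Cfsg.Agent.Blocks.RegularCongr
import Cfsg.Agent.Chars.LargestDegreeTools

/-!
# The degree equation of the principal block
-/

set_option autoImplicit false
set_option linter.unusedSectionVars false

namespace Cfsg.Lib.Blocks.DegreeEquation

open Cfsg.Lib.Chars SmallOrder SylowCount
open scoped _root_.Classical

universe u

variable {G : Type u} [Group G] [Fintype G] {p : ℕ} [Fact p.Prime] {M : Ideal AlgInt}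
  {C : Cyc G p} {ν : (ZMod p)ˣ → IrrCharacter G} {δ : ℤ}

/-- A signed degree congruent to `r` which may occur in the principal block. -/
def IsTerm (p D B : ℕ) (r z : ℤ) : Prop :=
  z.natAbs ∣ D ∧ 2 ≤ z.natAbs ∧ p ≤ 2 * z.natAbs + 1 ∧ z.natAbs * z.natAbs < B ∧ (p : ℤ) ∣ z - r

/-- A degree which a nontrivial character of the principal block may have. -/
def Allowed (p B v x : ℕ) : Prop :=
  (2 * x + 1 = p → 2 * B + p = p * (p * p)) ∧ (x < 2 * p → v = 1) ∧ (v % 2 = 0 → 2 * p ≤ x)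

/-- A simple group with an element of order `p` is faithful on each nontrivial character. -/
theorem faithful_of_ne_one [IsSimpleGroup G] (_hC : Core C) {χ : IrrCharacter G}
    (hne : χ ≠ oneG G) : ∀ g : G, (χ : G → ℂ) g = (χ : G → ℂ) 1 → g = 1 := by
  intro g hg
  have hχc := isCharacter_of_irr χ.2
  rcases (kerSubgroup_normal hχc).eq_bot_or_eq_top with e | e
  · exact Subgroup.mem_bot.1 (e ▸ (mem_kerSubgroup hχc g).2 hg)
  · exfalso
    have hv : ∀ x : G, (χ : G → ℂ) x = (χ : G → ℂ) 1 := fun x =>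
      (mem_kerSubgroup hχc x).1 (e ▸ Subgroup.mem_top x)
    have h := classInner_irr_ne hne
    rw [classInner_def] at h
    simp only [show ∀ x : G, (oneG G : G → ℂ) x = 1 from fun _ => rfl, map_one, mul_one, hv,
      irr_apply_one_eq_deg, Finset.sum_const, Finset.card_univ, nsmul_eq_mul,
      mul_eq_zero, inv_eq_zero, Nat.cast_eq_zero] at h
    rcases h with h | h | h
    · exact Nat.card_pos.ne' h
    · exact Fintype.card_ne_zero h
    · exact (deg_irr_pos χ).ne' h

theorem deg_bounds [IsSimpleGroup G] (hC : Core C) {χ : IrrCharacter G} (hne : χ ≠ oneG G) :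
    2 ≤ deg (χ : G → ℂ) ∧ p ≤ 2 * deg (χ : G → ℂ) + 1 ∧
      deg (χ : G → ℂ) * deg (χ : G → ℂ) < Nat.card G := by
  refine ⟨?_, deg_bound_faithful C.dvd_card C.sq hC.no_normal_prime (isCharacter_of_irr χ.2)
    (faithful_of_ne_one hC hne), ?_⟩
  · by_contra hlt
    have := deg_irr_pos χ
    exact hne (eq_one_of_deg_one hC.perfect (by omega))
  · rw [← sum_deg_sq_nat (G := G)]
    have h := Finset.sum_le_sum_of_subset (f := fun ψ : IrrCharacter G => deg (ψ : G → ℂ) ^ 2)
      (Finset.subset_univ ({χ, oneG G} : Finset (IrrCharacter G)))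
    rw [Finset.sum_pair hne, deg_oneG, pow_two, pow_two] at h
    simp only [pow_two] at h ⊢
    omega

/-- In degree less than `2 * p` the subgroup `V` lies in the kernel. -/
theorem apply_V_of_lies_two (hC : Core C) (hM : IsPModular p M) {χ : IrrCharacter G}
    (hl : C.Lies χ C.oneV) (hd : deg (χ : G → ℂ) < 2 * p) (v : C.V) :
    (χ : G → ℂ) ((v : C.H) : G) = (χ : G → ℂ) 1 := by
  have hpr := (Fact.out : p.Prime)
  have hconst : ∀ φ : IrrCharacter C.V, φ ≠ C.oneV → ∀ j : ZMod p, C.aN χ φ j = C.aN χ φ 0 := by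
    intro φ hφ j
    rcases eq_or_ne j 0 with rfl | hj
    · rfl
    · have h1 : C.bI χ φ (Units.mk0 j hj : (ZMod p)ˣ) = 0 := by
        by_contra h2
        exact hφ (eq_oneV_of_lies C hM hl ⟨_, h2⟩)
      rw [C.bI_eq_aN, Units.val_mk0] at h1
      omega
  have hsum : ∀ φ : IrrCharacter C.V, φ ≠ C.oneV →
      deg (φ : C.V → ℂ) * ∑ j, C.aN χ φ j = deg (φ : C.V → ℂ) * C.aN χ φ 0 * p := fun φ hφ => by
    rw [Finset.sum_congr rfl fun j _ => hconst φ hφ j, Finset.sum_const, Finset.card_univ,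
      ZMod.card, smul_eq_mul]
    ring
  have hval : ∀ w : C.V, (χ : G → ℂ) ((w : C.H) : G) =
      (∑ k, (C.aN χ C.oneV k : ℂ)) + ∑ φ ∈ Finset.univ.erase (C.oneV),
        (φ : C.V → ℂ) w * ((C.aN χ φ 0 * p : ℕ) : ℂ) := by
    intro w
    rw [← C.el_zero, C.apply_el, ← Finset.add_sum_erase _ _ (Finset.mem_univ C.oneV)]
    congr 1
    · refine Finset.sum_congr rfl fun k _ => ?_
      rw [mul_zero, AddChar.map_zero_eq_one, mul_one, show (C.oneV : C.V → ℂ) w = 1 from rfl,
        mul_one]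
    · refine Finset.sum_congr rfl fun φ hφ => ?_
      rw [Finset.sum_congr rfl (g := fun _ : ZMod p => (φ : C.V → ℂ) w * (C.aN χ φ 0 : ℂ))
        (fun k _ => by
          rw [mul_zero, AddChar.map_zero_eq_one, mul_one, hconst φ (Finset.ne_of_mem_erase hφ) k]
          ring),
        Finset.sum_const, Finset.card_univ, ZMod.card, nsmul_eq_mul]
      push_cast
      ring
  by_cases hall : ∀ φ : IrrCharacter C.V, φ ≠ C.oneV → C.aN χ φ 0 = 0
  · have h1 := hval 1
    rw [show (((1 : C.V) : C.H) : G) = 1 from rfl] at h1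
    rw [hval v, h1]
    congr 1
    refine Finset.sum_congr rfl fun φ hφ => ?_
    rw [hall φ (Finset.ne_of_mem_erase hφ), zero_mul, Nat.cast_zero, mul_zero, mul_zero]
  push Not at hall
  obtain ⟨φ₀, hφ₀, hc⟩ := hall
  set a := ∑ k, C.aN χ C.oneV k with ha
  have hdeg : deg (χ : G → ℂ) = deg (C.oneV : C.V → ℂ) * a +
      ∑ φ ∈ Finset.univ.erase C.oneV, deg (φ : C.V → ℂ) * C.aN χ φ 0 * p := by
    rw [C.deg_eq_sum χ, ← Finset.add_sum_erase _ _ (Finset.mem_univ C.oneV)]
    exact congrArg _ (Finset.sum_congr rfl fun φ hφ => hsum φ (Finset.ne_of_mem_erase hφ))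
  have hmem : φ₀ ∈ Finset.univ.erase C.oneV :=
    Finset.mem_erase.2 ⟨hφ₀, Finset.mem_univ _⟩
  rw [← Finset.add_sum_erase _ _ hmem] at hdeg
  have hone : deg (φ₀ : C.V → ℂ) * C.aN χ φ₀ 0 = 1 := by
    have h1 : 0 < deg (φ₀ : C.V → ℂ) * C.aN χ φ₀ 0 :=
      Nat.mul_pos (deg_irr_pos φ₀) (Nat.pos_of_ne_zero hc)
    by_contra hne
    have h2 : 2 * p ≤ deg (φ₀ : C.V → ℂ) * C.aN χ φ₀ 0 * p := Nat.mul_le_mul_right p (by omega)
    omega
  rw [hone, one_mul] at hdeg
  have hd1 : deg (φ₀ : C.V → ℂ) = 1 := Nat.eq_one_of_mul_eq_one_right hone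
  have hc1 : C.aN χ φ₀ 0 = 1 := Nat.eq_one_of_mul_eq_one_left hone
  have hrest : ∀ φ ∈ (Finset.univ.erase C.oneV).erase φ₀, C.aN χ φ 0 = 0 := by
    intro φ hφ
    by_contra hne
    have h1 : 1 * p ≤ deg (φ : C.V → ℂ) * C.aN χ φ 0 * p :=
      Nat.mul_le_mul_right p (Nat.mul_pos (deg_irr_pos φ) (Nat.pos_of_ne_zero hne))
    have h2 := Finset.single_le_sum (f := fun φ : IrrCharacter C.V =>
      deg (φ : C.V → ℂ) * C.aN χ φ 0 * p) (fun _ _ => Nat.zero_le _) hφ
    omega
  rw [show (∑ φ ∈ (Finset.univ.erase C.oneV).erase φ₀, deg (φ : C.V → ℂ) * C.aN χ φ 0 * p) = 0 from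
    Finset.sum_eq_zero fun φ hφ => by rw [hrest φ hφ, mul_zero, zero_mul], add_zero,
    show deg (C.oneV : C.V → ℂ) = 1 from Nat.cast_injective (R := ℂ) (by rw [← irr_apply_one_eq_deg, Nat.cast_one]; rfl), one_mul]
    at hdeg
  obtain ⟨f, hf⟩ := exists_hom_of_deg_one (isCharacter_of_irr φ₀.2)
    (by rw [IsCharacter.apply_one_eq_deg (isCharacter_of_irr φ₀.2), hd1, Nat.cast_one])
  have hχV : ∀ w : C.V, (χ : G → ℂ) ((w : C.H) : G) = (a : ℂ) + (p : ℂ) * (f w : ℂ) := by
    intro w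
    rw [hval w, ← Finset.add_sum_erase _ _ hmem, hc1, one_mul, Finset.sum_eq_zero (s := (Finset.univ.erase C.oneV).erase φ₀) fun φ hφ => by
      rw [hrest φ hφ, zero_mul, Nat.cast_zero, mul_zero], add_zero, hf, ha, Nat.cast_sum]
    ring
  suffices hfv : f v = 1 by
    have h1 := hχV 1
    rw [show (((1 : C.V) : C.H) : G) = 1 from rfl, map_one] at h1
    rw [hχV v, h1, hfv]
  -- the determinant
  obtain ⟨n, ρ, hρ⟩ := isCharacter_of_irr χ.2
  have hn : n = a + p := by
    rw [← hdeg, ← hρ, deg_character, Module.finrank_fintype_fun_eq_card, Fintype.card_fin]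
  subst hn
  let d : C.V → Fin (a + p) → ℂ := fun w => Fin.append (fun _ => 1) (fun _ => (f w : ℂ))
  let σ : Representation ℂ C.V (Fin (a + p) → ℂ) :=
    { toFun := fun w => Matrix.toLin' (Matrix.diagonal (d w))
      map_one' := by
        rw [show d 1 = 1 from funext fun i => by induction i using Fin.addCases <;> simp [d],
          show Matrix.diagonal (1 : Fin (a + p) → ℂ) = 1 from Matrix.diagonal_one, Matrix.toLin'_one]
        rfl
      map_mul' := fun w w' => by
        rw [show d (w * w') = fun i => d w i * d w' i from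
          funext fun i => by induction i using Fin.addCases <;> simp [d],
          ← Matrix.diagonal_mul_diagonal, Matrix.toLin'_mul]
        rfl }
  let τ : Representation ℂ C.V (Fin (a + p) → ℂ) :=
    MonoidHom.comp ρ (C.H.subtype.comp C.V.subtype)
  have hchar : τ.character = σ.character := funext fun w => by
    show LinearMap.trace ℂ _ (ρ ((w : C.H) : G)) = LinearMap.trace ℂ _ (Matrix.toLin' (Matrix.diagonal (d w)))
    rw [Matrix.trace_toLin'_eq, Matrix.trace_diagonal, Fin.sum_univ_add,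
      show LinearMap.trace ℂ _ (ρ ((w : C.H) : G)) = (χ : G → ℂ) ((w : C.H) : G) by rw [← hρ]; rfl,
      hχV w]
    simp [d]
  obtain ⟨ψ⟩ := nonempty_equiv_of_character_eq _ _ τ σ hchar
  have hdet : LinearMap.det (ρ ((v : C.H) : G)) = 1 := by
    have h5 := map_eq_one_of_perfect hC.perfect
      (Units.map (LinearMap.det : Module.End ℂ (Fin (a + p) → ℂ) →* ℂ) |>.comp ρ.toHomUnits)
      (fun a b => mul_comm _ _) ((v : C.H) : G)
    exact congrArg Units.val h5
  have hσ : LinearMap.det (σ v) = 1 := by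
    rw [← ψ.conj_apply_self v]
    exact (LinearMap.det_conj _ ψ.toLinearEquiv).trans hdet
  have hpow : f v ^ p = 1 := by
    refine Units.ext ?_
    rw [Units.val_pow_eq_pow_val, Units.val_one, ← hσ]
    show _ = LinearMap.det (Matrix.toLin' (Matrix.diagonal (d v)))
    rw [LinearMap.det_toLin', Matrix.det_diagonal, Fin.prod_univ_add]
    simp [d]
  refine orderOf_eq_one_iff.1 (Nat.eq_one_of_dvd_coprimes
    (hpr.coprime_iff_not_dvd.2 C.not_dvd_card_V) (orderOf_dvd_of_pow_eq_one hpow) ?_)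
  exact (orderOf_map_dvd f v).trans (orderOf_dvd_natCard v)

theorem allowed_of_lies [IsSimpleGroup G] (hC : Core C) (hM : IsPModular p M) (hp : 3 ≤ p)
    {χ : IrrCharacter G} (hl : C.Lies χ C.oneV) (hne : χ ≠ oneG G) :
    Allowed p (Nat.card G) (Nat.card C.V) (deg (χ : G → ℂ)) := by
  have hχc := isCharacter_of_irr χ.2
  have hfaith := faithful_of_ne_one hC hne
  refine ⟨fun hd => ?_, fun hd => ?_, fun hev => ?_⟩
  · obtain ⟨e⟩ := HalfDegree.iso_psl_of_half_degree C.dvd_card C.sq hC.no_normal_prime hχc hfaith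
      rfl hd (deg_bounds hC hne).1
    have h1 := Cfsg.Lib.Classical.SmallPSL.card_psl (F := ZMod p) (ZMod.card p)
    rw [← Nat.card_congr ((QuotientGroup.quotientMulEquivOfEq hC.center_eq_bot).trans
      QuotientGroup.quotientBot).toEquiv, Nat.card_congr e.toEquiv]
    have hodd : p % 2 = 1 := (Fact.out : p.Prime).eq_two_or_odd.resolve_left (by omega)
    have hg : Nat.gcd 2 (p - 1) = 2 := by
      rw [Nat.gcd_eq_left_iff_dvd]
      omega
    have h2 : p ≤ p * (p * p) := Nat.le_mul_of_pos_right p (Nat.mul_pos (by omega) (by omega))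
    rw [hg, pow_two, Nat.mul_sub_one] at h1
    omega
  · refine Nat.card_eq_one_iff_exists.2 ⟨1, fun v => Subtype.ext (Subtype.ext ?_)⟩
    exact hfaith _ (apply_V_of_lies_two hC hM hl hd v)
  · have : Fact (Nat.Prime 2) := ⟨Nat.prime_two⟩
    obtain ⟨v, hv⟩ := exists_prime_orderOf_dvd_card' 2 (Nat.dvd_of_mod_eq_zero hev)
    set w : G := ((v : C.H) : G) with hw
    have hwo : orderOf w = 2 := by rw [hw, Subgroup.orderOf_coe, Subgroup.orderOf_coe, hv]
    have hreg : ¬ p ∣ orderOf w := fun hd => by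
      rw [hwo] at hd
      have := Nat.le_of_dvd Nat.zero_lt_two hd
      omega
    have h1 := small_char_sub_regular hM hχc (x := C.y * w) (a := C.y)
      (isPPart_mul (by
        have := (C.commute_V v 1).symm
        rwa [C.yP_one] at this) ⟨1, by rw [pow_one, C.order]⟩ hreg)
    rw [inv_mul_cancel_left] at h1
    have h2 := small_char_sub_regular hM hχc (x := C.y * 1) (a := C.y)
      (isPPart_mul (Commute.one_right _) ⟨1, by rw [pow_one, C.order]⟩
        (by rw [orderOf_one]; exact (Fact.out : p.Prime).not_dvd_one))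
    rw [inv_mul_cancel_left, mul_one, irr_apply_one_eq_deg] at h2
    have h3 : (χ : G → ℂ) (C.y * w) = (χ : G → ℂ) C.y := by
      have := (apply_el_of_lies C hM hl (one_ne_zero (α := ZMod p)) v).trans
        (apply_yP_of_lies C hM hl (one_ne_zero (α := ZMod p))).symm
      rwa [Cyc.el, C.yP_one] at this
    rw [h3] at h1
    obtain ⟨n, ρ, hρ⟩ := hχc
    have hdet : LinearMap.det (ρ w) = 1 := by
      have h5 := map_eq_one_of_perfect hC.perfect
        (Units.map (LinearMap.det : Module.End ℂ (Fin n → ℂ) →* ℂ) |>.comp ρ.toHomUnits)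
        (fun a b => mul_comm _ _) w
      exact congrArg Units.val h5
    obtain ⟨c, hc2, hc⟩ := involution_value ρ (t := w) (by rw [← hwo, pow_orderOf_eq_one]) hdet
    have hn : n = deg (χ : G → ℂ) := by
      rw [← hρ, deg_character, Module.finrank_fintype_fun_eq_card, Fintype.card_fin]
    have hcw : (χ : G → ℂ) w = (deg (χ : G → ℂ) : ℂ) - 4 * (c : ℂ) := by rw [← hn, ← hρ, hc]
    rw [hcw] at h1
    have hpc : (p : ℤ) ∣ 4 * (c : ℤ) := by
      refine (small_intCast_iff hM _).1 ?_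
      have h4 := h1.sub h2
      rw [show (χ : G → ℂ) C.y - ((deg (χ : G → ℂ) : ℂ) - 4 * (c : ℂ)) -
        ((χ : G → ℂ) C.y - (deg (χ : G → ℂ) : ℂ)) = 4 * (c : ℂ) by ring] at h4
      push_cast
      exact h4
    have hpc' : p ∣ c := by
      refine ((Fact.out : p.Prime).dvd_mul.1 (show p ∣ 4 * c by exact_mod_cast hpc)).resolve_left
        fun hd => ?_
      rw [show (4 : ℕ) = 2 ^ 2 from rfl] at hd
      have := (Nat.prime_dvd_prime_iff_eq (Fact.out : p.Prime) Nat.prime_two).1 ((Fact.out : p.Prime).dvd_of_dvd_pow hd)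
      omega
    have hc0 : c ≠ 0 := fun e => by
      have hw1 : w = 1 := hfaith w (by rw [hcw, e, irr_apply_one_eq_deg]; simp)
      rw [hw1, orderOf_one] at hwo
      omega
    have := Nat.le_of_dvd (Nat.pos_of_ne_zero hc0) hpc'
    omega

theorem isTerm_ord [IsSimpleGroup G] (hC : Core C) (hM : IsPModular p M)
    (hD : C.OrbitData C.oneV ν δ) {χ : IrrCharacter G} (hχ : χ ∈ ordSet C ν) (hne : χ ≠ oneG G) :
    IsTerm p (idx C * eC C) (Nat.card G) 1 (C.bI χ C.oneV 1 * (deg (χ : G → ℂ) : ℤ)) := by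
  obtain ⟨hl, hr⟩ := mem_ordSet.1 hχ
  obtain ⟨h2, hp, hsq⟩ := deg_bounds hC hne
  have hcong := congr_ord hM hD hr hl
  have hd := dvd_ord hM hD hr hl
  rcases hD.sign_diff (χ := χ) ⟨hl, hr⟩ with e | e <;> rw [e] at hcong ⊢
  · rw [one_mul, IsTerm, Int.natAbs_natCast]
    exact ⟨hd, h2, hp, hsq, hcong⟩
  · rw [neg_one_mul, IsTerm, Int.natAbs_neg, Int.natAbs_natCast]
    refine ⟨hd, h2, hp, hsq, ?_⟩
    rw [← dvd_neg, show -(-(deg (χ : G → ℂ) : ℤ) - 1) = (deg (χ : G → ℂ) : ℤ) - -1 by omega]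
    exact hcong

theorem isTerm_exc [IsSimpleGroup G] (hC : Core C) (hM : IsPModular p M)
    (hD : C.OrbitData C.oneV ν δ) (hr : oneG G ∉ Set.range ν) :
    IsTerm p (idx C * eC C) (Nat.card G) (eC C : ℤ) (δ * (deg (ν 1 : G → ℂ) : ℤ)) := by
  obtain ⟨h2, hp, hsq⟩ := deg_bounds hC (χ := ν 1) fun e => hr ⟨1, e⟩
  have hcong := congr_exc hM hD
  have hd := dvd_exc hM hD
  rcases hD.sign with e | e <;> rw [e] at hcong ⊢
  · rw [one_mul, IsTerm, Int.natAbs_natCast]
    rw [one_mul] at hcong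
    exact ⟨hd, h2, hp, hsq, hcong⟩
  · rw [neg_one_mul, IsTerm, Int.natAbs_neg, Int.natAbs_natCast]
    refine ⟨hd, h2, hp, hsq, ?_⟩
    rw [← dvd_neg, show -(-(deg (ν 1 : G → ℂ) : ℤ) - (eC C : ℤ)) =
      (deg (ν 1 : G → ℂ) : ℤ) - -1 * (eC C : ℤ) by omega]
    exact hcong

/-- The degree equation. -/
theorem degree_equation [IsSimpleGroup G] (hC : Core C) (hM : IsPModular p M)
    (hD : C.OrbitData C.oneV ν δ) :
    ∃ (a : ℤ) (l : List ℤ), l.length + 1 = eC C ∧ 1 + l.sum = a ∧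
      (IsTerm p (idx C * eC C) (Nat.card G) (eC C : ℤ) a ∧
        Allowed p (Nat.card G) (Nat.card C.V) a.natAbs) ∧
      ∀ z ∈ l, IsTerm p (idx C * eC C) (Nat.card G) 1 z ∧
        Allowed p (Nat.card G) (Nat.card C.V) z.natAbs := by
  have hp := hC.three_le
  have habs : ∀ {χ : IrrCharacter G}, χ ∈ ordSet C ν →
      (C.bI χ C.oneV 1 * (deg (χ : G → ℂ) : ℤ)).natAbs = deg (χ : G → ℂ) := fun {χ} hχ => by
    rcases hD.sign_diff (χ := χ) (mem_ordSet.1 hχ) with e | e <;> simp [e]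
  have hrel := relation hD
  have hcard := card_ordSet hD
  by_cases hr : oneG G ∈ Set.range ν
  · obtain ⟨u, hu⟩ := hr
    have hx0 : deg (ν 1 : G → ℂ) = 1 := by rw [← deg_exc hD u, hu, deg_oneG]
    have hne : ∀ χ ∈ ordSet C ν, χ ≠ oneG G := fun χ hχ e =>
      (mem_ordSet.1 hχ).2 ⟨u, by rw [hu, e]⟩
    have hcong := congr_exc hM hD
    have he2 := hC.two_le_eC
    have hep : eC C + 1 ≤ p := by
      have := (Fact.out : p.Prime).two_le
      have := Nat.le_of_dvd (by omega) (eC_dvd C)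
      omega
    rw [hx0, Nat.cast_one] at hcong hrel
    have hδ : δ = -1 ∧ eC C + 1 = p := by
      rcases hD.sign with e | e <;> rw [e] at hcong
      · rw [one_mul] at hcong
        have h1 : (p : ℤ) ∣ (eC C : ℤ) - 1 := by rwa [dvd_sub_comm]
        have := Int.le_of_dvd (by omega) h1
        omega
      · rw [neg_one_mul, sub_neg_eq_add] at hcong
        have := Int.le_of_dvd (by omega) hcong
        exact ⟨e, by omega⟩
    obtain ⟨χ₁, hχ₁⟩ := Finset.card_pos.1 (show 0 < (ordSet C ν).card by omega)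
    rw [← Finset.add_sum_erase _ _ hχ₁, hδ.1] at hrel
    refine ⟨-(C.bI χ₁ C.oneV 1 * (deg (χ₁ : G → ℂ) : ℤ)),
      ((ordSet C ν).erase χ₁).toList.map fun χ => C.bI χ C.oneV 1 * (deg (χ : G → ℂ) : ℤ),
      ?_, ?_, ?_, ?_⟩
    · rw [List.length_map, Finset.length_toList, Finset.card_erase_of_mem hχ₁]
      omega
    · rw [Finset.sum_map_toList]
      omega
    · refine ⟨?_, by
        rw [Int.natAbs_neg, habs hχ₁]
        exact allowed_of_lies hC hM hp (mem_ordSet.1 hχ₁).1 (hne _ hχ₁)⟩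
      obtain ⟨h1, h2, h3, h4, h5⟩ := isTerm_ord hC hM hD hχ₁ (hne _ hχ₁)
      refine ⟨by rwa [Int.natAbs_neg], by rwa [Int.natAbs_neg], by rwa [Int.natAbs_neg],
        by rwa [Int.natAbs_neg], ?_⟩
      rw [show -(C.bI χ₁ C.oneV 1 * (deg (χ₁ : G → ℂ) : ℤ)) - (eC C : ℤ) =
        -(C.bI χ₁ C.oneV 1 * (deg (χ₁ : G → ℂ) : ℤ) - 1) - (p : ℤ) by
          have : (eC C : ℤ) + 1 = p := by exact_mod_cast hδ.2
          omega]
      exact dvd_sub h5.neg_right dvd_rfl
    · intro z hz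
      obtain ⟨χ, hχ, rfl⟩ := List.mem_map.1 hz
      have hχ' := Finset.mem_of_mem_erase (Finset.mem_toList.1 hχ)
      refine ⟨isTerm_ord hC hM hD hχ' (hne _ hχ'), ?_⟩
      rw [habs hχ']
      exact allowed_of_lies hC hM hp (mem_ordSet.1 hχ').1 (hne _ hχ')
  · have hm : oneG G ∈ ordSet C ν := mem_ordSet.2 ⟨lies_oneG, hr⟩
    rw [← Finset.add_sum_erase _ _ hm, bI_oneG' hM hD hr, deg_oneG] at hrel
    push_cast at hrel
    refine ⟨δ * (deg (ν 1 : G → ℂ) : ℤ),
      ((ordSet C ν).erase (oneG G)).toList.map fun χ => C.bI χ C.oneV 1 * (deg (χ : G → ℂ) : ℤ),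
      ?_, ?_, ⟨isTerm_exc hC hM hD hr, ?_⟩, ?_⟩
    · rw [List.length_map, Finset.length_toList, Finset.card_erase_of_mem hm]
      have := hC.two_le_eC
      omega
    · rw [Finset.sum_map_toList]
      omega
    · rw [show (δ * (deg (ν 1 : G → ℂ) : ℤ)).natAbs = deg (ν 1 : G → ℂ) by
        rcases hD.sign with e | e <;> simp [e]]
      exact allowed_of_lies hC hM hp (lies_exc hD 1) fun e => hr ⟨1, e⟩
    · intro z hz
      obtain ⟨χ, hχ, rfl⟩ := List.mem_map.1 hz
      have hχ' := Finset.mem_of_mem_erase (Finset.mem_toList.1 hχ)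
      have hχ'' := Finset.ne_of_mem_erase (Finset.mem_toList.1 hχ)
      refine ⟨isTerm_ord hC hM hD hχ' hχ'', ?_⟩
      rw [habs hχ']
      exact allowed_of_lies hC hM hp (mem_ordSet.1 hχ').1 hχ''

end Cfsg.Lib.Blocks.DegreeEquation
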