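import Mathlib
import Cfsg.Agent.Blocks.DegreeEquation.Data
import Cfsg.Agent.Blocks.BrauerTuan.CentralSum
import Cfsg.Agent.Blocks.RegularCongr
import Cfsg.Agent.Chars.LargestDegreeTools

/-!
# The case of a normalizer with inertial index two
-/

set_option autoImplicit false
set_option linter.unusedSectionVars false

namespace Cfsg.Lib.Blocks.DegreeEquation

open Cfsg.Lib.Chars SmallOrder SylowCount
open scoped ComplexConjugate _root_.Classical

universe u

variable {G : Type u} [Group G] [Fintype G] [IsSimpleGroup G] {p : ℕ} [Fact p.Prime]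
  {M : Ideal AlgInt} {C : Cyc G p} {ν : (ZMod p)ˣ → IrrCharacter G} {δ : ℤ}

/-- The data in the case of index two. -/
structure EqTwo (M : Ideal AlgInt) (C : Cyc G p) (ν : (ZMod p)ˣ → IrrCharacter G) (δ : ℤ)
    (χ : IrrCharacter G) (b : ℤ) : Prop where
  modular : IsPModular p M
  core : Core C
  data : C.OrbitData C.oneV ν δ
  five : 5 ≤ p
  eC_two : eC C = 2
  not_one : oneG G ∉ Set.range ν
  lies : C.Lies χ C.oneV
  not_range : χ ∉ Set.range ν
  ne_one : χ ≠ oneG G
  ordSet_eq : ordSet C ν = {oneG G, χ}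
  b_eq : b = C.bI χ C.oneV 1 * (deg (χ : G → ℂ) : ℤ)
  relation : 1 + b = δ * (deg (ν 1 : G → ℂ) : ℤ)

theorem exists_eqTwo (hC : Core C) (hM : IsPModular p M) (hD : C.OrbitData C.oneV ν δ)
    (hp : 5 ≤ p) (he : eC C = 2) :
    ∃ χ b, EqTwo M C ν δ χ b ∧ (IsTerm p (idx C * eC C) (Nat.card G) 1 b ∧
        Allowed p (Nat.card G) (Nat.card C.V) b.natAbs) ∧
      (IsTerm p (idx C * eC C) (Nat.card G) 2 (1 + b) ∧
        Allowed p (Nat.card G) (Nat.card C.V) (1 + b).natAbs) := by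
  have hr : oneG G ∉ Set.range ν := by
    rintro ⟨u, hu⟩
    have hx0 : deg (ν 1 : G → ℂ) = 1 := by rw [← deg_exc hD u, hu, deg_oneG]
    have hcong := congr_exc hM hD
    rw [hx0, he] at hcong
    rcases hD.sign with e | e <;> rw [e] at hcong
    · have := Int.le_of_dvd (by norm_num) (dvd_neg.2 hcong)
      omega
    · have := Int.le_of_dvd (by norm_num) hcong
      omega
  have hm : oneG G ∈ ordSet C ν := mem_ordSet.2 ⟨lies_oneG, hr⟩
  obtain ⟨χ, hχ⟩ : ∃ χ, (ordSet C ν).erase (oneG G) = {χ} := Finset.card_eq_one.1 (by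
    rw [Finset.card_erase_of_mem hm, card_ordSet hD, he])
  have hmem : χ ∈ (ordSet C ν).erase (oneG G) := hχ ▸ Finset.mem_singleton_self χ
  have hχo := Finset.mem_of_mem_erase hmem
  have hrel := relation hD
  rw [← Finset.add_sum_erase _ _ hm, hχ, Finset.sum_singleton, bI_oneG' hM hD hr, deg_oneG] at hrel
  push_cast at hrel
  refine ⟨χ, _, ⟨hM, hC, hD, hp, he, hr, (mem_ordSet.1 hχo).1, (mem_ordSet.1 hχo).2,
    Finset.ne_of_mem_erase hmem, ?_, rfl, hrel⟩, ⟨isTerm_ord hC hM hD hχo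
      (Finset.ne_of_mem_erase hmem), ?_⟩, ?_, ?_⟩
  · rw [← Finset.insert_erase hm, hχ]
  · rw [show (C.bI χ C.oneV 1 * (deg (χ : G → ℂ) : ℤ)).natAbs = deg (χ : G → ℂ) by
      rcases hD.sign_diff (χ := χ) (mem_ordSet.1 hχo) with e | e <;> simp [e]]
    exact allowed_of_lies hC hM (by omega) (mem_ordSet.1 hχo).1 (Finset.ne_of_mem_erase hmem)
  rotate_left
  · rw [hrel, show (δ * (deg (ν 1 : G → ℂ) : ℤ)).natAbs = deg (ν 1 : G → ℂ) by
      rcases hD.sign with e | e <;> simp [e]]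
    exact allowed_of_lies hC hM (by omega) (lies_exc hD 1) fun e => hr ⟨1, e⟩
  · rw [hrel]
    have := isTerm_exc hC hM hD hr
    rw [he] at this ⊢
    exact_mod_cast this

lemma pairs_algebra {K N X Y ε δ r r0 T : ℂ} (hX : X ≠ 0) (hY : Y ≠ 0) (hN : N ≠ 0)
    (hε : ε * ε = 1) (hrel : 1 + ε * X = δ * Y) (h0 : δ * r0 = 1 + ε * r)
    (hT : T = K * K / N * (1 + r * r * ε / X + r0 * r0 / Y * -δ)) :
    K ^ 2 * (ε * X - ε * r) ^ 2 = T * N * (1 + ε * X) * (ε * X) := by
  have e2 : (ε * X - ε * r) ^ 2 = (1 + ε * X) * (ε * X) + r ^ 2 * (1 + ε * X) -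
      (ε * X) * (1 + ε * r) ^ 2 := by
    linear_combination (r ^ 2 + ε * X * r ^ 2) * hε
  rw [hT, e2, hrel, ← h0]
  field_simp
  linear_combination -(K ^ 2 * r ^ 2 * Y * δ) * hε

namespace EqTwo

variable {χ : IrrCharacter G} {b : ℤ} (h : EqTwo M C ν δ χ b)
include h

theorem apply_el (i : ZMod p) (hi : i ≠ 0) (v : C.V) :
    (χ : G → ℂ) (C.el i v) = (C.bI χ C.oneV 1 : ℂ) := by
  rw [apply_el_of_lies C h.modular h.lies hi, ← apply_yP_of_lies C h.modular h.lies hi]
  exact apply_yP_ord h.modular h.data h.not_range h.lies hi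

section

variable (hV : Nat.card C.V = 1)
include hV

theorem lies_of_ne_zero (η : IrrCharacter G) (hη : (η : G → ℂ) C.y ≠ 0) : C.Lies η C.oneV := by
  obtain ⟨P, hP⟩ := h.core.sylow
  have hv : ∀ v : C.V, v = 1 := fun v => (Nat.card_eq_one_iff_unique.1 hV).1.elim v 1
  have hone : ∀ θ : IrrCharacter C.V, θ = C.oneV := fun θ => by
    refine Subtype.ext (funext fun v => ?_)
    rw [hv v, irr_deg_one_of_comm (fun a b => by rw [hv a, hv b]) θ.2]
    rfl
  by_contra hl
  exact hη (C.apply_singular_of_forall_not_lies (fun θ => hone θ ▸ hl) P hP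
    (dvd_of_eq C.order.symm))

theorem sum_block {R : Type*} [AddCommMonoid R] (f : IrrCharacter G → R)
    (hf : ∀ η, ¬ C.Lies η C.oneV → f η = 0) :
    ∑ η, f η = f (oneG G) + f χ + ∑ η ∈ Finset.univ.image ν, f η := by
  rw [← Finset.sum_pair (Ne.symm h.ne_one), ← h.ordSet_eq,
    ← Finset.sum_union (Finset.disjoint_left.2 fun η h1 h2 => by
      obtain ⟨u, -, hu⟩ := Finset.mem_image.1 h2
      exact (mem_ordSet.1 h1).2 ⟨u, hu⟩)]
  refine (Finset.sum_subset (Finset.subset_univ _) fun η _ hη => hf η fun hl => hη ?_).symm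
  rw [Finset.mem_union]
  by_cases hr : η ∈ Set.range ν
  · obtain ⟨u, rfl⟩ := hr
    exact Or.inr (Finset.mem_image_of_mem _ (Finset.mem_univ _))
  · exact Or.inl (mem_ordSet.2 ⟨hl, hr⟩)

/-- The number of pairs of conjugates of an involution with product `y`. -/
theorem pairs_formula {z : G} (hzz : z * z = 1) :
    ∃ R : ℤ, ((χ : G → ℂ) z = (C.bI χ C.oneV 1 * R : ℤ)) ∧
      (Nat.card {x : G // IsConj z x} : ℂ) ^ 2 * ((b : ℂ) - (R : ℂ)) ^ 2 =
        (Nat.card {w : G × G // IsConj z w.1 ∧ IsConj z w.2 ∧ w.1 * w.2 = C.y} : ℂ) *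
          (Nat.card G : ℂ) * ((1 + b : ℤ) : ℂ) * (b : ℂ) := by
  obtain ⟨r, hr⟩ := BrauerTuan.exists_int_apply_sq_one (isCharacter_of_irr χ.2) hzz
  obtain ⟨r0, hr0⟩ := BrauerTuan.exists_int_apply_sq_one (isCharacter_of_irr (ν 1).2) hzz
  have hreg : ¬ p ∣ orderOf z := fun hd => by
    have h2 : orderOf z ∣ 2 := orderOf_dvd_of_pow_eq_one (by rw [pow_two, hzz])
    have := Nat.le_of_dvd Nat.zero_lt_two (hd.trans h2)
    have := h.five
    omega
  have hone : ∀ g : G, (oneG G : G → ℂ) g = 1 := fun _ => rfl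
  have hχy : (χ : G → ℂ) C.y = (C.bI χ C.oneV 1 : ℂ) := by
    rw [← C.yP_one]
    exact apply_yP_ord h.modular h.data h.not_range h.lies one_ne_zero
  have hχ0 : (deg (χ : G → ℂ) : ℂ) ≠ 0 := Nat.cast_ne_zero.2 (deg_irr_pos χ).ne'
  have hν0 : (deg (ν 1 : G → ℂ) : ℂ) ≠ 0 := Nat.cast_ne_zero.2 (deg_irr_pos (ν 1)).ne'
  -- the orthogonality relation
  have horth := second_orthogonality z C.y
  rw [if_neg (fun hc => hreg (by
    obtain ⟨a, ha⟩ := isConj_iff.1 hc
    have h1 : orderOf C.y = orderOf z := by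
      rw [← ha]
      exact MulEquiv.orderOf_eq (MulAut.conj a) z
    rw [← h1, C.order])), h.sum_block hV _ (fun η hl => by
      rw [show (η : G → ℂ) C.y = 0 from by_contra fun hne => hl (h.lies_of_ne_zero hV η hne),
        map_zero, mul_zero]),
    Finset.sum_congr rfl (g := fun η : IrrCharacter G => (r0 : ℂ) * conj ((η : G → ℂ) C.y))
      (fun η hη => by
        obtain ⟨u, -, rfl⟩ := Finset.mem_image.1 hη
        rw [apply_exc_regular h.data u hreg, hr0]),
    ← Finset.mul_sum, ← map_sum, hχy, ← C.yP_one, sum_exc h.modular h.data one_ne_zero, hone,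
    hone, hr] at horth
  simp only [map_neg, map_intCast, map_one, mul_one] at horth
  -- the class multiplication
  have hf := class_mult_formula z z C.y
  rw [h.sum_block hV _ (fun η hl => by
      rw [show (η : G → ℂ) C.y = 0 from by_contra fun hne => hl (h.lies_of_ne_zero hV η hne),
        map_zero, mul_zero, zero_div]),
    Finset.sum_congr rfl (g := fun η : IrrCharacter G =>
      (r0 : ℂ) * (r0 : ℂ) / (deg (ν 1 : G → ℂ) : ℂ) * conj ((η : G → ℂ) C.y)) (fun η hη => by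
        obtain ⟨u, -, rfl⟩ := Finset.mem_image.1 hη
        rw [apply_exc_regular h.data u hreg, hr0, irr_apply_one_eq_deg, deg_exc h.data]
        ring),
    ← Finset.mul_sum, ← map_sum, hχy, ← C.yP_one, sum_exc h.modular h.data one_ne_zero, hone,
    hone, hone, hr, irr_apply_one_eq_deg] at hf
  simp only [map_neg, map_intCast, map_one, mul_one, div_one, C.yP_one] at hf
  have hb : (b : ℂ) = (C.bI χ C.oneV 1 : ℂ) * (deg (χ : G → ℂ) : ℂ) := by
    rw [h.b_eq]
    push_cast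
    rfl
  have hrel : (1 : ℂ) + (b : ℂ) = (δ : ℂ) * (deg (ν 1 : G → ℂ) : ℂ) := by
    have := congrArg (Int.cast (R := ℂ)) h.relation
    push_cast at this
    exact this
  have hε : (C.bI χ C.oneV 1 : ℂ) * (C.bI χ C.oneV 1 : ℂ) = 1 := by
    rcases h.data.sign_diff (χ := χ) ⟨h.lies, h.not_range⟩ with e | e <;> rw [e] <;> simp
  have hδ : (δ : ℂ) * (δ : ℂ) = 1 := by
    rcases h.data.sign with e | e <;> rw [e] <;> simp
  have hG : (Nat.card G : ℂ) ≠ 0 := Nat.cast_ne_zero.2 Nat.card_pos.ne'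
  refine ⟨C.bI χ C.oneV 1 * r, ?_, ?_⟩
  · rw [hr]
    push_cast
    linear_combination -(r : ℂ) * hε
  · push_cast
    rw [hb] at hrel ⊢
    exact pairs_algebra (r := (r : ℂ)) (r0 := (r0 : ℂ)) hχ0 hν0 hG hε hrel (by linear_combination -horth)
      (by linear_combination hf)

/-- An involution is conjugate to an inverting one. -/
theorem pairs_ne_zero {z : G} (hzz : z * z = 1) (hz1 : z ≠ 1) :
    Nat.card {w : G × G // IsConj z w.1 ∧ IsConj z w.2 ∧ w.1 * w.2 = C.y} ≠ 0 := by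
  intro h0
  obtain ⟨R, hR, hf⟩ := h.pairs_formula hV hzz
  rw [h0, Nat.cast_zero, zero_mul, zero_mul, zero_mul] at hf
  have hK : (Nat.card {x : G // IsConj z x} : ℂ) ≠ 0 := Nat.cast_ne_zero.2 (card_isConj_pos z).ne'
  have hbR : (b : ℂ) = (R : ℂ) :=
    sub_eq_zero.1 ((pow_eq_zero_iff two_ne_zero).1 ((mul_eq_zero.1 hf).resolve_left (pow_ne_zero _ hK)))
  refine hz1 (faithful_of_ne_one h.core h.ne_one z ?_)
  rw [hR, ← Int.cast_injective hbR, h.b_eq, ← mul_assoc,
    show C.bI χ C.oneV 1 * C.bI χ C.oneV 1 = 1 by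
      rcases h.data.sign_diff (χ := χ) ⟨h.lies, h.not_range⟩ with e | e <;> rw [e] <;> rfl,
    one_mul, irr_apply_one_eq_deg, Int.cast_natCast]

/-- The class of involutions. -/
theorem exists_class (h2 : 2 ∣ Nat.card G) :
    ∃ (K : ℕ) (R : ℤ), Odd K ∧ K ∣ Nat.card G ∧ R.natAbs ≤ b.natAbs ∧ R ≠ b ∧
      (K : ℤ) ^ 2 * (b - R) ^ 2 = (p : ℤ) * (Nat.card G : ℤ) * (1 + b) * b := by
  have : Fact (Nat.Prime 2) := ⟨Nat.prime_two⟩
  have hp2 : p ≠ 2 := by have := h.five; omega
  have hHc : Nat.card C.H = 2 := by rw [card_H C, h.eC_two, hV]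
  obtain ⟨a, ha⟩ := exists_prime_orderOf_dvd_card' (G := C.H) 2 (hHc ▸ dvd_rfl)
  have haa : a * a = 1 := by rw [← pow_two, ← ha, pow_orderOf_eq_one]
  have ha1 : a ≠ 1 := fun e => by rw [e, orderOf_one] at ha; omega
  have hall : ∀ k : C.H, k = 1 ∨ k = a := by
    intro k
    by_contra hk
    push Not at hk
    have h3 : ({1, a, k} : Finset C.H).card ≤ 2 := by
      have := Fintype.ofFinite C.H
      calc _ ≤ (Finset.univ : Finset C.H).card := Finset.card_le_card (Finset.subset_univ _)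
        _ = 2 := by rw [Finset.card_univ, ← Nat.card_eq_fintype_card, hHc]
    rw [Finset.card_insert_of_notMem (by simp [Ne.symm ha1, Ne.symm hk.1]),
      Finset.card_pair (Ne.symm hk.2)] at h3
    omega
  set s : G := (a : G) with hs
  have hss : s * s = 1 := congrArg Subtype.val haa
  have hv : ∀ v : C.V, v = 1 := fun v => (Nat.card_eq_one_iff_unique.1 hV).1.elim v 1
  have hact : (C.act a : ZMod p) = -1 := by
    have h1 : (C.act a : ZMod p) * (C.act a : ZMod p) = 1 := by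
      rw [← Units.val_mul, ← map_mul, haa, map_one, Units.val_one]
    refine (mul_self_eq_one_iff.1 h1).resolve_left fun e => ha1 ?_
    exact congrArg Subtype.val (hv ⟨a, Units.ext (by rw [e, Units.val_one])⟩)
  have hinv : ∀ i : ZMod p, s * C.yP i * s⁻¹ = C.yP (-i) := fun i => by
    rw [hs, C.conj_yP, hact, neg_one_mul]
  have h20 : (2 : ZMod p) ≠ 0 := fun e => hp2 ((Nat.prime_dvd_prime_iff_eq (Fact.out : p.Prime)
    Nat.prime_two).1 ((ZMod.natCast_eq_zero_iff 2 p).1 (by exact_mod_cast e)))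
  have hconj : ∀ i : ZMod p, IsConj s (C.yP i * s) := by
    intro i
    refine isConj_iff.2 ⟨C.yP (i * (2 : ZMod p)⁻¹), ?_⟩
    set j := i * (2 : ZMod p)⁻¹
    rw [← C.yP_neg, mul_assoc, show s * C.yP (-j) = C.yP j * s by
      rw [← neg_neg j, ← hinv (-j), neg_neg, inv_mul_cancel_right], ← mul_assoc, ← C.yP_add,
      ← two_mul, mul_comm (2 : ZMod p), mul_assoc, inv_mul_cancel₀ h20, mul_one]
  have hsqc : ∀ {z x : G}, z * z = 1 → IsConj z x → x * x = 1 := fun {z x} hzz hx => by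
    obtain ⟨c, rfl⟩ := isConj_iff.1 hx
    rw [show c * z * c⁻¹ * (c * z * c⁻¹) = c * (z * z) * c⁻¹ by group, hzz]
    group
  have hfirst : ∀ u w : G, u * u = 1 → w * w = 1 → u * w = C.y → ∃ i, u = C.yP i * s := by
    intro u w hu hw huw
    have hiu : u⁻¹ = u := inv_eq_of_mul_eq_one_left hu
    have hiw : w⁻¹ = w := inv_eq_of_mul_eq_one_left hw
    have h1 : u * C.y * u⁻¹ = C.y⁻¹ := by
      rw [← huw, mul_inv_rev, hiw, hiu, ← mul_assoc, hu, one_mul]
    have hn : u⁻¹ ∈ Subgroup.normalizer (Subgroup.zpowers C.y : Set G) :=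
      C.norm_of_mem (i := 1) (j := -1) one_ne_zero
        (by rw [inv_inv, C.yP_neg, C.yP_one, h1])
    obtain ⟨i, k, hk, e⟩ := C.decomp u (by simpa using inv_mem hn)
    refine ⟨i, ?_⟩
    rcases hall ⟨k, hk⟩ with e' | e'
    · exfalso
      have hk1 : k = 1 := congrArg Subtype.val e'
      rw [hk1, mul_one] at e
      have h3 : (C.y ^ i) ^ 2 = 1 := by rw [← e, pow_two, hu]
      rw [← pow_mul] at h3
      have h4 := orderOf_dvd_of_pow_eq_one h3
      rw [C.order] at h4
      have h5 : p ∣ i := ((Fact.out : p.Prime).dvd_mul.1 h4).resolve_right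
        fun h6 => hp2 ((Nat.prime_dvd_prime_iff_eq (Fact.out : p.Prime) Nat.prime_two).1 h6)
      have h6 : u = 1 := by
        rw [e, ← orderOf_dvd_iff_pow_eq_one, C.order]
        exact h5
      rw [h6, one_mul] at huw
      rw [huw] at hw
      have := orderOf_dvd_of_pow_eq_one (x := C.y) (n := 2) (by rw [pow_two, hw])
      rw [C.order] at this
      exact hp2 ((Nat.prime_dvd_prime_iff_eq (Fact.out : p.Prime) Nat.prime_two).1 this)
    · rw [e, C.yP_natCast i]
      exact congrArg (C.y ^ i * ·) (congrArg Subtype.val e')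
  -- every involution is conjugate to `s`
  obtain ⟨S⟩ : Nonempty (Sylow 2 G) := inferInstance
  have hS1 : Nontrivial (S : Subgroup G) :=
    (Subgroup.nontrivial_iff_ne_bot _).2 (S.ne_bot_of_dvd_card h2)
  have hnt := S.2.center_nontrivial
  obtain ⟨n, hn⟩ := IsPGroup.iff_card.1 (S.2.to_subgroup (Subgroup.center (S : Subgroup G)))
  have hdvd : 2 ∣ Nat.card (Subgroup.center (S : Subgroup G)) := by
    rw [hn]
    refine dvd_pow_self 2 fun e => ?_
    rw [e, pow_zero] at hn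
    have := Finite.one_lt_card_iff_nontrivial.2 hnt
    omega
  obtain ⟨c, hc⟩ := exists_prime_orderOf_dvd_card' 2 hdvd
  set z : G := ((c : (S : Subgroup G)) : G) with hz
  have hzo : orderOf z = 2 := by rw [hz, Subgroup.orderOf_coe, Subgroup.orderOf_coe, hc]
  have hzz : z * z = 1 := by rw [← pow_two, ← hzo, pow_orderOf_eq_one]
  have hz1 : z ≠ 1 := fun e => by rw [e, orderOf_one] at hzo; omega
  have hne := h.pairs_ne_zero hV hzz hz1
  obtain ⟨⟨⟨u, w⟩, hu, hw, huw⟩⟩ := (Nat.card_ne_zero.1 hne).1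
  obtain ⟨i₀, hi₀⟩ := hfirst u w (hsqc hzz hu) (hsqc hzz hw) huw
  have hzs : IsConj z s := by
    have hu' : IsConj z u := hu
    rw [hi₀] at hu'
    exact hu'.trans (hconj i₀).symm
  have hKodd : Odd (Nat.card {x : G // IsConj z x}) := by
    have hle : (S : Subgroup G) ≤ Subgroup.centralizer ({z} : Set G) := fun x hx => by
      rw [Subgroup.mem_centralizer_singleton_iff]
      exact congrArg Subtype.val (Subgroup.mem_center_iff.1 c.2 ⟨x, hx⟩)
    rw [card_isConj, ← Nat.not_even_iff_odd, even_iff_two_dvd]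
    exact fun hd => S.not_dvd_index (hd.trans (Subgroup.index_dvd_of_le hle))
  have hT : Nat.card {w : G × G // IsConj z w.1 ∧ IsConj z w.2 ∧ w.1 * w.2 = C.y} = p := by
    refine (Nat.card_congr (Equiv.ofBijective (fun i : ZMod p =>
      (⟨(C.yP i * s, C.yP (i - 1) * s), hzs.trans (hconj _), hzs.trans (hconj _), ?_⟩ :
        {w : G × G // IsConj z w.1 ∧ IsConj z w.2 ∧ w.1 * w.2 = C.y})) ⟨?_, ?_⟩)).symm.trans
      (Nat.card_zmod p)
    · show C.yP i * s * (C.yP (i - 1) * s) = C.y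
      rw [show C.yP i * s * (C.yP (i - 1) * s) = C.yP i * (s * C.yP (i - 1) * s⁻¹) * (s * s) by group,
        hss, mul_one, hinv, ← C.yP_add, show i + -(i - 1) = (1 : ZMod p) by ring, C.yP_one]
    · intro i j e
      exact C.yP_injective (mul_right_cancel (congrArg Prod.fst (congrArg Subtype.val e)))
    · rintro ⟨⟨u', w'⟩, hu', hw', huw'⟩
      obtain ⟨i, rfl⟩ := hfirst u' w' (hsqc hzz hu') (hsqc hzz hw') huw'
      refine ⟨i, Subtype.ext (Prod.ext rfl (mul_left_cancel (a := C.yP i * s) ?_))⟩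
      show C.yP i * s * (C.yP (i - 1) * s) = C.yP i * s * w'
      rw [show C.yP i * s * (C.yP (i - 1) * s) = C.yP i * (s * C.yP (i - 1) * s⁻¹) * (s * s) by group,
        hss, mul_one, hinv, ← C.yP_add, show i + -(i - 1) = (1 : ZMod p) by ring, C.yP_one]
      exact huw'.symm
  obtain ⟨R, hR, hf⟩ := h.pairs_formula hV hzz
  rw [hT] at hf
  have hx : b.natAbs = deg (χ : G → ℂ) ∧ (C.bI χ C.oneV 1 * R).natAbs = R.natAbs := by
    rcases h.data.sign_diff (χ := χ) ⟨h.lies, h.not_range⟩ with e | e <;>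
      refine ⟨?_, ?_⟩ <;> simp [h.b_eq, e]
  have hle : R.natAbs ≤ b.natAbs := by
    rw [hx.1, ← hx.2]
    have h1 := IsCharacter.norm_le (isCharacter_of_irr χ.2) z
    rw [irr_apply_one_eq_deg, Complex.natCast_re, hR, Complex.norm_intCast] at h1
    have h2 : (((C.bI χ C.oneV 1 * R).natAbs : ℕ) : ℝ) = |((C.bI χ C.oneV 1 * R : ℤ) : ℝ)| := by
      rw [Nat.cast_natAbs, Int.cast_abs]
    rw [← h2] at h1
    exact_mod_cast h1
  refine ⟨_, R, hKodd, by rw [card_isConj]; exact Subgroup.index_dvd_card _, hle, ?_, ?_⟩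
  · intro e
    refine hz1 (faithful_of_ne_one h.core h.ne_one z ?_)
    rw [hR, e, h.b_eq, ← mul_assoc, show C.bI χ C.oneV 1 * C.bI χ C.oneV 1 = 1 by
      rcases h.data.sign_diff (χ := χ) ⟨h.lies, h.not_range⟩ with e | e <;> rw [e] <;> rfl,
      one_mul, irr_apply_one_eq_deg, Int.cast_natCast]
  · apply Int.cast_injective (α := ℂ)
    push_cast at hf ⊢
    exact hf

end

end EqTwo

end Cfsg.Lib.Blocks.DegreeEquation
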