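import Mathlib
import Cfsg.Agent.Blocks.DegreeEquation.Two
import Cfsg.Agent.Blocks.DegreeEquation.Inv
import Cfsg.Agent.Blocks.BrauerTuan.Main
import Cfsg.Agent.Small.Toolkit

/-!
# A decidable criterion against simple groups with a Sylow subgroup of prime order
-/

set_option autoImplicit false
set_option linter.unusedSectionVars false

namespace Cfsg.Lib.Blocks.DegreeEquation

open Cfsg.Lib.Chars SmallOrder SylowCount

universe u

/-- The decidable version of `Allowed`. -/
def allowedB (p B v x : ℕ) : Bool :=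
  (decide (2 * x + 1 ≠ p) || decide (2 * B + p = p * (p * p))) &&
    (decide (2 * p ≤ x) || decide (v = 1)) && (decide (v % 2 ≠ 0) || decide (2 * p ≤ x))

/-- The signed degrees congruent to `r`, up to `S`. -/
def terms (p D B v S : ℕ) (r : ℤ) : List ℤ :=
  ((List.range (S + 1)).flatMap fun x =>
    if 2 ≤ x ∧ D % x = 0 ∧ p ≤ 2 * x + 1 ∧ x * x < B ∧ allowedB p B v x = true then
      [(x : ℤ), -(x : ℤ)] else []).filter fun z => (z - r) % (p : ℤ) == 0

/-- The sums of `k` terms. -/
def sums (L : List ℤ) : ℕ → List ℤ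
  | 0 => [0]
  | k + 1 => ((sums L k).flatMap fun s => L.map fun z => z + s).dedup

/-- The test in the case of index two. -/
def twoKill (p M v : ℕ) (b : ℤ) : Bool :=
  decide (v = 1) && (List.range (2 * b.natAbs + 1)).all fun j =>
    let W := ((p : ℤ) * ((p * M : ℕ) : ℤ) * (1 + b) * b).natAbs
    decide (j = 0) || decide (¬ (W % (j * j) = 0 ∧
      Nat.sqrt (W / (j * j)) * Nat.sqrt (W / (j * j)) = W / (j * j) ∧
      Nat.sqrt (W / (j * j)) % 2 = 1 ∧ (p * M) % Nat.sqrt (W / (j * j)) = 0))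

/-- The test of the values at an inverting involution. -/
def invLeaf (p B t : ℕ) (a : ℤ) (l : List (ℤ × ℤ)) : Bool :=
  let R := 1 + (l.map Prod.snd).sum
  let N := (fracs l).1 * a - R * R * (fracs l).2
  let W := (p : ℤ) * B * ((fracs l).2 * a)
  let K := Nat.sqrt (W / N).natAbs
  decide (a.natAbs < R.natAbs) || decide (N = 0) ||
    decide (¬ ((K : ℤ) * K * N = W ∧ B % K = 0 ∧
      (1 + (l.map fun q => q.2 * q.2).sum + (t : ℤ) * (R * R)) * K ≤ B))

/-- All lists of values for a list of degrees. -/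
def allR (f : List (ℤ × ℤ) → Bool) : List ℤ → List (ℤ × ℤ) → Bool
  | [], acc => f acc
  | z :: zs, acc => (List.range (2 * z.natAbs + 1)).all fun i =>
      decide ((z - ((i : ℤ) - z.natAbs)) % 4 ≠ 0) || allR f zs ((z, (i : ℤ) - z.natAbs) :: acc)

/-- All lists of `k` degrees. -/
def allZ (L : List ℤ) (f : List ℤ → Bool) : ℕ → List ℤ → Bool
  | 0, acc => f acc
  | k + 1, acc => L.all fun z => allZ L f k (z :: acc)

/-- The test in the case of a self-centralizing subgroup and an even index. -/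
def invKill (p B e : ℕ) (A L : List ℤ) : Bool :=
  allZ L (fun zs => !A.contains (1 + zs.sum) ||
    allR (invLeaf p B ((p - 1) / e) (1 + zs.sum)) zs []) (e - 1) []

/-- The test for a number of Sylow subgroups and an inertial index. -/
def checkPair (p M S N e : ℕ) : Bool :=
  let A := terms p (N * e) (p * M) (M / N / e) S (e : ℤ)
  let L := terms p (N * e) (p * M) (M / N / e) S 1
  ((sums L (e - 1)).all fun s => !A.contains (1 + s)) ||
    (decide (5 ≤ p) && decide (e = 2) &&
      L.all fun b => !A.contains (1 + b) || twoKill p M (M / N / e) b) ||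
    (decide (M / N / e = 1) && decide (e % 2 = 0) && invKill p (p * M) e A L)

/-- The test for a number of Sylow subgroups. -/
def checkN (p M S N : ℕ) : Bool :=
  !(decide (1 < N ∧ N % p = 1 ∧ M % N = 0)) ||
    (List.range p).all fun e =>
      !(decide (2 ≤ e ∧ (p - 1) % e = 0 ∧ (M / N) % e = 0)) || checkPair p M S N e

/-- The test. -/
def check (p M S : ℕ) : Bool :=
  (List.range (M + 1)).all (checkN p M S)

lemma mem_terms {p D B v S : ℕ} {r z : ℤ} (hS : B ≤ S * S) (h : IsTerm p D B r z)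
    (ha : Allowed p B v z.natAbs) : z ∈ terms p D B v S r := by
  obtain ⟨h1, h2, h3, h4, h5⟩ := h
  have hB : allowedB p B v z.natAbs = true := by
    simp only [allowedB, Bool.or_eq_true, Bool.and_eq_true, decide_eq_true_eq]
    obtain ⟨a1, a2, a3⟩ := ha
    refine ⟨⟨?_, ?_⟩, ?_⟩
    · exact (em (2 * z.natAbs + 1 = p)).symm.imp id a1
    · exact (Nat.lt_or_ge z.natAbs (2 * p)).symm.imp id a2
    · exact (em (v % 2 = 0)).symm.imp id a3
  have hlt : z.natAbs < S + 1 := by
    by_contra hge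
    have : S * S ≤ z.natAbs * z.natAbs := Nat.mul_le_mul (by omega) (by omega)
    omega
  refine List.mem_filter.2 ⟨List.mem_flatMap.2 ⟨z.natAbs, List.mem_range.2 hlt, ?_⟩, ?_⟩
  · rw [if_pos ⟨h2, Nat.mod_eq_zero_of_dvd h1, h3, h4, hB⟩]
    rcases Int.natAbs_eq z with e | e
    · exact List.mem_cons.2 (Or.inl e)
    · exact List.mem_cons.2 (Or.inr (List.mem_singleton.2 e))
  · rw [beq_iff_eq]
    exact Int.emod_eq_zero_of_dvd h5

lemma sum_mem_sums {L : List ℤ} : ∀ l : List ℤ, (∀ z ∈ l, z ∈ L) → l.sum ∈ sums L l.length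
  | [], _ => by simp [sums]
  | z :: l, h => by
    rw [List.sum_cons, List.length_cons, sums, List.mem_dedup, List.mem_flatMap]
    exact ⟨l.sum, sum_mem_sums l fun w hw => h w (List.mem_cons_of_mem z hw),
      List.mem_map.2 ⟨z, h z List.mem_cons_self, rfl⟩⟩

lemma allR_spec {f : List (ℤ × ℤ) → Bool} : ∀ (qs acc : List (ℤ × ℤ)),
    allR f (qs.map Prod.fst) acc = true →
    (∀ q ∈ qs, q.2.natAbs ≤ q.1.natAbs ∧ (4 : ℤ) ∣ q.1 - q.2) → f (qs.reverse ++ acc) = true
  | [], acc, h, _ => h
  | (z, R) :: qs, acc, h, hq => by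
    obtain ⟨hR, h4⟩ := hq (z, R) List.mem_cons_self
    rw [List.map_cons, allR, List.all_eq_true] at h
    have h1 := h (R + z.natAbs).toNat (List.mem_range.2 (by simp only at hR; omega))
    rw [show (((R + z.natAbs).toNat : ℤ) - z.natAbs) = R by simp only at hR; omega, Bool.or_eq_true,
      decide_eq_true_eq] at h1
    have h2 := allR_spec qs _ (h1.resolve_left (fun hne => hne (Int.emod_eq_zero_of_dvd h4)))
      fun q hq' => hq q (List.mem_cons_of_mem _ hq')
    rwa [List.reverse_cons, List.append_assoc, List.singleton_append]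

lemma allZ_spec {L : List ℤ} {f : List ℤ → Bool} : ∀ (l acc : List ℤ),
    allZ L f l.length acc = true → (∀ z ∈ l, z ∈ L) → f (l.reverse ++ acc) = true
  | [], acc, h, _ => h
  | z :: l, acc, h, hl => by
    rw [List.length_cons, allZ, List.all_eq_true] at h
    have h2 := allZ_spec l _ (h z (hl z List.mem_cons_self))
      fun w hw => hl w (List.mem_cons_of_mem _ hw)
    rwa [List.reverse_cons, List.append_assoc, List.singleton_append]

lemma false_of_invKill {p B v D S e : ℕ} (hS : B ≤ S * S) (hB : 0 < B) (hp : 0 < p)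
    {r a : ℤ} {l : List (ℤ × ℤ)} (hlen : l.length + 1 = e)
    (hl : InvPairs p B v ((p - 1) / e) D r a l)
    (h : invKill p B e (terms p D B v S r) (terms p D B v S 1) = true) : False := by
  obtain ⟨hsum, ⟨ha, hA⟩, hq, hR, K, hK, hE, hC⟩ := hl
  rw [invKill, show e - 1 = (l.map Prod.fst).length by rw [List.length_map]; omega] at h
  have h1 := allZ_spec (l.map Prod.fst) [] h fun z hz => by
    obtain ⟨q, hq', rfl⟩ := List.mem_map.1 hz
    exact mem_terms hS (hq q hq').1.1 (hq q hq').1.2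
  simp only [List.append_nil, List.sum_reverse, hsum, Bool.or_eq_true, Bool.not_eq_true',
    List.contains_iff_mem.2 (mem_terms hS ha hA), Bool.true_eq_false, false_or] at h1
  rw [← List.map_reverse] at h1
  have h2 := allR_spec l.reverse [] h1
    fun q hq' => ⟨(hq q (List.mem_reverse.1 hq')).2.2, (hq q (List.mem_reverse.1 hq')).2.1⟩
  simp only [List.reverse_reverse, List.append_nil, invLeaf, Bool.or_eq_true, decide_eq_true_eq] at h2
  set N := (fracs l).1 * a - (1 + (l.map Prod.snd).sum) * (1 + (l.map Prod.snd).sum) * (fracs l).2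
  have hd : (fracs l).2 ≠ 0 := (fracs_spec l fun q hq' e => by
    have := (hq q hq').1.1.2.1
    rw [e] at this
    simp at this).1
  have hW : (p : ℤ) * B * ((fracs l).2 * a) ≠ 0 := mul_ne_zero
    (mul_ne_zero (by omega) (by omega)) (mul_ne_zero hd fun e => by
      have := ha.2.1
      rw [e] at this
      simp at this)
  have hN : N ≠ 0 := fun e => hW (by rw [← hE, e, mul_zero])
  rcases h2 with (h2 | h2) | h2
  · omega
  · exact hN h2
  · have hsq : Nat.sqrt ((p : ℤ) * B * ((fracs l).2 * a) / N).natAbs = K := by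
      rw [← hE, Int.mul_ediv_cancel _ hN, Int.natAbs_mul, Int.natAbs_natCast, Nat.sqrt_eq]
    rw [hsq] at h2
    exact h2 ⟨hE, Nat.mod_eq_zero_of_dvd hK, hC⟩

variable {G : Type u} [Group G] [Finite G] [IsSimpleGroup G]

/-- The number of Sylow subgroups fails the test. -/
theorem checkN_card_sylow (hG : ¬ IsCyclic G) (p M S : ℕ) [Fact p.Prime]
    (hcard : Nat.card G = p * M) (hpM : ¬ p ∣ M) (hS : p * M ≤ S * S) :
    checkN p M S (Nat.card (Sylow p G)) = false := by
  classical
  have hpr := (Fact.out : p.Prime)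
  have := Fintype.ofFinite G
  have hperf := BrauerTuan.perfect_of_simple hG
  have hdiv : p ∣ Nat.card G := ⟨M, hcard⟩
  have hsq : ¬ p ^ 2 ∣ Nat.card G := fun hd => by
    rw [hcard, pow_two] at hd
    exact hpM (Nat.dvd_of_mul_dvd_mul_left hpr.pos hd)
  obtain ⟨P⟩ : Nonempty (Sylow p G) := inferInstance
  obtain ⟨C, hC⟩ := exists_cyc hdiv hsq P
  have hcore : Core C := ⟨hperf, ⟨P, hC⟩, fun N hN hne => by
    rw [hN.eq_bot_or_eq_top.resolve_left hne]
    exact Subgroup.mem_top _⟩
  obtain ⟨Mi, hM⟩ := exists_isPModular hpr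
  obtain ⟨ν, δ, hD⟩ := C.exists_orbitData hM C.oneV
  obtain ⟨n, hn0, hn⟩ := hcore.exists_idx
  have hMeq : M = idx C * (eC C * Nat.card C.V) := by
    refine Nat.eq_of_mul_eq_mul_left hpr.pos ?_
    rw [← hcard, card_eq C]
    ring
  have he2 := hcore.two_le_eC
  have hNM : idx C ∣ M := ⟨_, hMeq⟩
  have hN : 1 < idx C ∧ idx C % p = 1 ∧ M % idx C = 0 := by
    refine ⟨?_, ?_, Nat.mod_eq_zero_of_dvd hNM⟩
    · have := hcore.lt_idx
      have := hpr.two_le
      omega
    · rw [hn, Nat.add_mul_mod_self_right, Nat.one_mod_eq_one.2 hpr.ne_one]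
  have hq : M / idx C = eC C * Nat.card C.V := by
    rw [hMeq, Nat.mul_div_cancel_left _ (by omega)]
  have hv : M / idx C / eC C = Nat.card C.V := by
    rw [hq, Nat.mul_div_cancel_left _ (by omega)]
  have he : 2 ≤ eC C ∧ (p - 1) % eC C = 0 ∧ (M / idx C) % eC C = 0 :=
    ⟨he2, Nat.mod_eq_zero_of_dvd (eC_dvd C), by rw [hq, Nat.mul_mod_right]⟩
  have hMpos : 0 < M := Nat.pos_of_ne_zero fun e => hpM (e ▸ dvd_zero p)
  have hidx : Nat.card (Sylow p G) = idx C := by
    rw [idx, hC]
    exact P.card_eq_index_normalizer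
  rw [hidx]
  by_contra hc
  rw [Bool.not_eq_false] at hc
  have h1 := hc
  rw [checkN, Bool.or_eq_true, Bool.not_eq_true', decide_eq_false_iff_not] at h1
  replace h1 := h1.resolve_left (not_not.2 hN)
  rw [List.all_eq_true] at h1
  have h2 := h1 (eC C) (List.mem_range.2 (by
    have := hpr.two_le
    have := Nat.le_of_dvd (by omega) (eC_dvd C)
    omega))
  rw [Bool.or_eq_true, Bool.not_eq_true', decide_eq_false_iff_not] at h2
  replace h2 := h2.resolve_left (not_not.2 he)
  rw [checkPair, hv, Bool.or_eq_true, Bool.or_eq_true] at h2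
  rcases h2 with (h2 | h2) | h2
  · rw [List.all_eq_true] at h2
    obtain ⟨a, l, hlen, hsum, ha, hl⟩ := degree_equation hcore hM hD
    rw [hcard] at ha hl
    have h3 := h2 l.sum (by
      rw [show eC C - 1 = l.length by omega]
      exact sum_mem_sums l fun z hz => mem_terms hS (hl z hz).1 (hl z hz).2)
    simp only [Bool.not_eq_true', hsum] at h3
    rw [List.contains_iff_mem.2 (mem_terms hS ha.1 ha.2)] at h3
    exact Bool.noConfusion h3
  · rw [Bool.and_eq_true, Bool.and_eq_true, decide_eq_true_eq, decide_eq_true_eq,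
      List.all_eq_true] at h2
    obtain ⟨⟨hp5, he2'⟩, h2⟩ := h2
    obtain ⟨χ, b, hE, hb, ha⟩ := exists_eqTwo hcore hM hD hp5 he2'
    rw [hcard] at hb ha
    have h3 := h2 b (mem_terms hS hb.1 hb.2)
    rw [show ((eC C : ℕ) : ℤ) = 2 by rw [he2']; rfl,
      List.contains_iff_mem.2 (mem_terms hS ha.1 ha.2),
      Bool.not_true, Bool.false_or, twoKill, Bool.and_eq_true, decide_eq_true_eq,
      List.all_eq_true] at h3
    obtain ⟨hV, h3⟩ := h3
    have h2G : 2 ∣ Nat.card G := by
      rw [card_eq C, he2']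
      exact dvd_mul_of_dvd_right (dvd_mul_right 2 _) _
    obtain ⟨K, R, hKodd, hKdvd, hR, hRb, hK⟩ := hE.exists_class hV h2G
    rw [hcard] at hK hKdvd
    have hj : 0 < (b - R).natAbs := by omega
    have h4 := h3 (b - R).natAbs (List.mem_range.2 (by omega))
    rw [Bool.or_eq_true, decide_eq_true_eq, decide_eq_true_eq] at h4
    refine h4.resolve_left (by omega) ?_
    have hW : ((p : ℤ) * ((p * M : ℕ) : ℤ) * (1 + b) * b).natAbs =
        K * K * ((b - R).natAbs * (b - R).natAbs) := by
      rw [← hK, Int.natAbs_mul, Int.natAbs_pow, Int.natAbs_pow, Int.natAbs_natCast, pow_two,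
        pow_two]
    rw [hW, Nat.mul_div_cancel _ (Nat.mul_pos hj hj), Nat.sqrt_eq]
    exact ⟨Nat.mul_mod_left _ _, rfl, Nat.odd_iff.1 hKodd, Nat.mod_eq_zero_of_dvd hKdvd⟩
  · rw [Bool.and_eq_true, Bool.and_eq_true, decide_eq_true_eq, decide_eq_true_eq] at h2
    obtain ⟨⟨hV, hev⟩, h2⟩ := h2
    obtain ⟨a, l, hlen, hl⟩ := exists_invPairs hcore hM hD hV (Nat.dvd_of_mod_eq_zero hev)
    rw [hcard] at hl
    exact false_of_invKill hS (Nat.mul_pos hpr.pos hMpos) hpr.pos hlen hl h2

/-- No simple group passes the test. -/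
theorem false_of_check (hG : ¬ IsCyclic G) (p M S : ℕ) [Fact p.Prime] (hcard : Nat.card G = p * M)
    (hpM : ¬ p ∣ M) (hS : p * M ≤ S * S) (h : check p M S = true) : False := by
  have h1 := checkN_card_sylow hG p M S hcard hpM hS
  rw [check, List.all_eq_true] at h
  have hd : Nat.card (Sylow p G) ∣ M := by
    obtain ⟨P⟩ : Nonempty (Sylow p G) := inferInstance
    exact (Cfsg.Lib.Small.sylow_facts P (a := 1) (by rw [pow_one]; exact hcard) hpM).1
  rw [h _ (List.mem_range.2 (Nat.lt_succ_of_le (Nat.le_of_dvd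
    (Nat.pos_of_ne_zero fun e => hpM (e ▸ dvd_zero p)) hd)))] at h1
  exact Bool.noConfusion h1

end Cfsg.Lib.Blocks.DegreeEquation
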